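/-
Certificate data of a coset enumeration.
-/
import Cfsg.Agent.Lib.CosetEnum.Fi22B.Data

set_option autoImplicit false
set_option maxRecDepth 1000000

namespace CfsgLib.CosetEnum.Fi22B

open CfsgLib.CosetEnum

/-- Completion of the rows from 0. -/
def rows0 : List (List ℕ) := [[0x1, 0x1001, 0x2001, 0x3001, 0x4001, 0x6001, 0x5001], [0x7001, 0x8001, 0x9001, 0xa001, 0xc001, 0x6001, 0xb001], [0xd001, 0xe001, 0xf001, 0x12001, 0xc001, 0x10001, 0x11001], [0x13001, 0x14001, 0x18001, 0x12001, 0x15001, 0x16001, 0x17001], [0x19001, 0x1d001, 0x18001, 0x1a001, 0x1b001, 0x1c001, 0x22001], [0x28001, 0x1d001, 0x1e001, 0x1f001, 0x20001, 0x21001, 0x2e001], [0x23001, 0x2f001, 0x24001, 0x25001, 0x26001, 0x27001, 0x22001], [0x28001, 0x29001, 0x2a001, 0x2b001, 0x2c001, 0x2d001, 0x33001], [0x34001, 0x2f001, 0x39001, 0x30001, 0x31001, 0x32001, 0x2e001], [0x34001, 0x35001, 0x3e001, 0x36001, 0x37001, 0x38001, 0x33001], [0x3f001,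 0x3a001, 0x39001, 0x43001, 0x3b001, 0x3c001, 0x3d001], [0x3f001, 0x48001, 0x3e001, 0x4e001, 0x40001, 0x41001, 0x42001], [0x4f001, 0x44001, 0x45001, 0x43001, 0x53001, 0x46001, 0x47001], [0x49001, 0x48001, 0x4a001, 0x58001, 0x4b001, 0x4c001, 0x4d001], [0x4f001, 0x5a001, 0x50001, 0x4e001, 0x5d001, 0x51001, 0x52001], [0x5e001, 0x54001, 0x55001, 0x56001, 0x53001, 0x62001, 0x57001], [0x59001, 0x5a001, 0x68001, 0x58001, 0x6d001, 0x5b001, 0x5c001], [0x5e001, 0x6f001, 0x5f001, 0x60001, 0x5d001, 0x72001, 0x61001], [0x73001, 0x63001, 0x64001, 0x65001, 0x66001, 0x62001, 0x67001], [0x69001, 0x6a001, 0x68001, 0x6b001, 0x78001, 0x6c001, 0x7c001], [0x6e001, 0x6f001, 0x7b001, 0x70001, 0x6d001, 0x82001, 0x71001], [0x73001, 0x84001, 0x74001, 0x75001, 0x76001, 0x72001, 0x77001], [0x79001, 0x7a001, 0x7b001, 0x88001, 0x78001, 0x8d001, 0x92001], [0x7d001, 0x7e001, 0x7f001, 0x80001, 0x96001, 0x81001, 0x7c001], [0x83001, 0x84001,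 0x90001, 0x85001, 0x86001, 0x82001, 0x87001], [0x89001, 0x8a001, 0x8b001, 0x88001, 0x8c001, 0x97001, 0x99001], [0x8e001, 0x8f001, 0x90001, 0x98001, 0x91001, 0x8d001, 0x99001], [0x93001, 0x94001, 0x95001, 0x98001, 0x96001, 0x97001, 0x92001]]

theorem rows0_ok : okRows data table 154 0 rows0 = true := by decide +kernel

theorem rows0_len : rows0.length = 28 := by decide +kernel

end CfsgLib.CosetEnum.Fi22B
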